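import Mathlib
import Cfsg.Agent.FooteOdd.Base

/-!
# S2223, rows SL and SU (helper911): base change of operators, coordinate subspaces

* `bc k g` : the operator `g` on `κ → K`, extended to `κ → k`;
* `supp k T` : the vectors with support in `T`.
-/

set_option autoImplicit false
set_option linter.unusedSectionVars false

namespace Cfsg.Agent.H911.Hall

open Equiv Cfsg.Agent.FooteOdd

variable {K : Type*} [Field K] (k : Type*) [Field k] [Algebra K k]

section bc

variable {κ : Type*} [Fintype κ] [DecidableEq κ]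

/-- base change of an operator -/
noncomputable def bc : ((κ → K) ≃ₗ[K] (κ → K)) →* ((κ → k) →ₗ[k] (κ → k)) where
  toFun g := Matrix.toLin' ((LinearMap.toMatrix' (g : (κ → K) →ₗ[K] (κ → K))).map (algebraMap K k))
  map_one' := by
    have h1 : ((1 : (κ → K) ≃ₗ[K] (κ → K)) : (κ → K) →ₗ[K] (κ → K)) = LinearMap.id := rfl
    rw [h1, LinearMap.toMatrix'_id, Matrix.map_one _ (map_zero _) (map_one _), Matrix.toLin'_one]
    rfl
  map_mul' g h := by
    have h1 : ((g * h : (κ → K) ≃ₗ[K] (κ → K)) : (κ → K) →ₗ[K] (κ → K)) = (g : (κ → K) →ₗ[K] (κ → K)) ∘ₗ h := rfl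
    rw [h1, LinearMap.toMatrix'_comp, Matrix.map_mul, Matrix.toLin'_mul]
    rfl

theorem bc_apply (g : (κ → K) ≃ₗ[K] (κ → K)) (v : κ → k) (y : κ) :
    bc k g v y = ∑ x, algebraMap K k (g (Pi.single x 1) y) * v x := by
  change Matrix.toLin' _ v y = _
  rw [Matrix.toLin'_apply]
  refine Finset.sum_congr rfl fun x _ => ?_
  have h1 : ((LinearMap.toMatrix' (g : (κ → K) →ₗ[K] (κ → K))).map (algebraMap K k)) y x = algebraMap K k (g (Pi.single x 1) y) := by
    rw [Matrix.map_apply, LinearMap.toMatrix'_apply]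
    rfl
  exact congrArg (· * v x) h1

theorem bc_map (g : (κ → K) ≃ₗ[K] (κ → K)) (v : κ → K) :
    bc k g (fun y => algebraMap K k (v y)) = fun y => algebraMap K k (g v y) := by
  funext y
  have h1 : g v = ∑ x, v x • g (Pi.single x 1) := by
    have h2 : v = ∑ x, v x • (Pi.single x 1 : κ → K) := by
      funext y
      simp [Pi.single_apply]
    conv_lhs => rw [h2, map_sum]
    exact Finset.sum_congr rfl fun x _ => map_smul g _ _
  rw [bc_apply, h1, Finset.sum_apply, map_sum]
  refine Finset.sum_congr rfl fun x _ => ?_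
  rw [Pi.smul_apply, smul_eq_mul, map_mul, mul_comm]

theorem bc_single (g : (κ → K) ≃ₗ[K] (κ → K)) (x : κ) :
    bc k g (Pi.single x 1) = fun y => algebraMap K k (g (Pi.single x 1) y) := by
  rw [← bc_map]
  congr 1
  funext y
  rw [Pi.single_apply, Pi.single_apply]
  split_ifs <;> simp

theorem det_bc (g : (κ → K) ≃ₗ[K] (κ → K)) : LinearMap.det (bc k g) = algebraMap K k (LinearEquiv.det g : Kˣ) := by
  have h1 : bc k g = Matrix.toLin' ((LinearMap.toMatrix' (g : (κ → K) →ₗ[K] (κ → K))).map (algebraMap K k)) := rfl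
  rw [h1]
  rw [LinearMap.det_toLin', LinearEquiv.coe_det, ← LinearMap.det_toMatrix', ← RingHom.mapMatrix_apply, ← RingHom.map_det]

theorem bc_injective : Function.Injective (bc (K := K) (κ := κ) k) := by
  intro g h hgh
  apply LinearEquiv.toLinearMap_injective
  refine LinearMap.pi_ext' fun x => LinearMap.ext_ring ?_
  change g (Pi.single x 1) = h (Pi.single x 1)
  have h1 := congrFun (LinearMap.congr_fun hgh (Pi.single x 1))
  funext y
  have h2 := h1 y
  rw [bc_single, bc_single] at h2
  exact (algebraMap K k).injective h2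

theorem bc_dg (d : κ → Kˣ) (v : κ → k) (y : κ) : bc k (dg d) v y = algebraMap K k (d y : K) * v y := by
  rw [bc_apply, Finset.sum_eq_single y]
  · rw [dg_apply, Pi.single_eq_same, mul_one]
  · intro x _ hx
    rw [dg_apply, Pi.single_eq_of_ne hx.symm, mul_zero, map_zero, zero_mul]
  · intro h
    exact absurd (Finset.mem_univ _) h

theorem bc_pm (σ : Perm κ) (v : κ → k) (y : κ) : bc k (pm (K := K) σ) v y = v (σ⁻¹ y) := by
  rw [bc_apply, Finset.sum_eq_single (σ⁻¹ y)]
  · rw [pm_apply, Pi.single_eq_same, map_one, one_mul]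
  · intro x _ hx
    rw [pm_apply, Pi.single_eq_of_ne hx.symm, map_zero, zero_mul]
  · intro h
    exact absurd (Finset.mem_univ _) h

theorem bc_sc (c : Kˣ) (v : κ → k) : bc k (sc c) v = algebraMap K k (c : K) • v := by
  funext y
  rw [sc, bc_dg]
  rfl

end bc

section blocks

variable {α β : Type*} [Fintype α] [DecidableEq α] [Fintype β] [DecidableEq β]

theorem bc_J_inl (p : (α → (Fin 2 → K) ≃ₗ[K] (Fin 2 → K)) × (β → Kˣ)) (v : Ix α β → k) (i : α) (s : Fin 2) :
    bc k (J p) v (Sum.inl (i, s)) = bc k (p.1 i) (fun s => v (Sum.inl (i, s))) s := by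
  rw [bc_apply, bc_apply, Fintype.sum_sum_type, Fintype.sum_prod_type, Finset.sum_eq_single i]
  · rw [Finset.sum_eq_zero (s := (Finset.univ : Finset β))]
    · rw [add_zero]
      refine Finset.sum_congr rfl fun s' _ => ?_
      rw [J_inl]
      have h1 : (fun s => (Pi.single (Sum.inl (i, s')) 1 : Ix α β → K) (Sum.inl (i, s))) = Pi.single s' 1 := by
        funext s''
        by_cases h : s'' = s'
        · subst h; rw [Pi.single_eq_same, Pi.single_eq_same]
        · rw [Pi.single_eq_of_ne h, Pi.single_eq_of_ne]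
          intro h'
          exact h (Prod.ext_iff.1 (Sum.inl.inj h')).2
      rw [h1]
    · intro j _
      rw [J_inl]
      have : (fun s => (Pi.single (Sum.inr j) 1 : Ix α β → K) (Sum.inl (i, s))) = 0 := by
        funext s'
        rw [Pi.single_eq_of_ne (by simp)]
        rfl
      rw [this, map_zero, Pi.zero_apply, map_zero, zero_mul]
  · intro i' _ hi'
    refine Finset.sum_eq_zero fun s' _ => ?_
    rw [J_inl]
    have : (fun s => (Pi.single (Sum.inl (i', s')) 1 : Ix α β → K) (Sum.inl (i, s))) = 0 := by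
      funext s''
      rw [Pi.single_eq_of_ne]
      · rfl
      · intro h
        exact hi' (Prod.ext_iff.1 (Sum.inl.inj h)).1.symm
    rw [this, map_zero, Pi.zero_apply, map_zero, zero_mul]
  · intro h
    exact absurd (Finset.mem_univ _) h

theorem bc_J_inr (p : (α → (Fin 2 → K) ≃ₗ[K] (Fin 2 → K)) × (β → Kˣ)) (v : Ix α β → k) (j : β) :
    bc k (J p) v (Sum.inr j) = algebraMap K k (p.2 j : K) * v (Sum.inr j) := by
  rw [bc_apply, Finset.sum_eq_single (Sum.inr j)]
  · rw [J_inr, Pi.single_eq_same, mul_one]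
  · intro x _ hx
    rw [J_inr, Pi.single_eq_of_ne hx.symm, mul_zero, map_zero, zero_mul]
  · intro h
    exact absurd (Finset.mem_univ _) h

theorem bc_bp_inl (π : Perm α) (v : Ix α β → k) (i : α) (s : Fin 2) :
    bc k (bp (K := K) π) v (Sum.inl (i, s)) = v (Sum.inl (π⁻¹ i, s)) := by
  rw [bp, MonoidHom.comp_apply, bc_pm, ← map_inv, bpσ_inl]

theorem bc_bp_inr (π : Perm α) (v : Ix α β → k) (j : β) : bc k (bp (K := K) π) v (Sum.inr j) = v (Sum.inr j) := by
  rw [bp, MonoidHom.comp_apply, bc_pm, ← map_inv, bpσ_inr]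

end blocks

section supp

variable {κ : Type*}

/-- the vectors with support in `T` -/
def supp (T : Set κ) : Submodule k (κ → k) where
  carrier := {v | ∀ x, x ∉ T → v x = 0}
  zero_mem' := fun _ _ => rfl
  add_mem' := by
    intro v w hv hw x hx
    rw [Pi.add_apply, hv x hx, hw x hx, add_zero]
  smul_mem' := by
    intro c v hv x hx
    rw [Pi.smul_apply, hv x hx, smul_zero]

variable {k}

theorem mem_supp {T : Set κ} {v : κ → k} : v ∈ supp k T ↔ ∀ x, x ∉ T → v x = 0 := Iff.rfl

variable (k)

open Classical in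
/-- coordinates -/
noncomputable def suppEquiv (T : Set κ) : supp k T ≃ₗ[k] (T → k) where
  toFun v := fun x => (v : κ → k) x
  map_add' _ _ := rfl
  map_smul' _ _ := rfl
  invFun w := ⟨fun x => if h : x ∈ T then w ⟨x, h⟩ else 0, fun x hx => dif_neg hx⟩
  left_inv v := by
    refine Subtype.ext (funext fun x => ?_)
    by_cases h : x ∈ T
    · exact dif_pos h
    · change (if h : x ∈ T then _ else _) = _
      rw [dif_neg h]
      exact (v.2 x h).symm
  right_inv w := by
    funext x
    exact dif_pos x.2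

theorem finrank_supp [Finite κ] (T : Set κ) : Module.finrank k (supp k T) = Nat.card T := by
  classical
  have : Fintype κ := Fintype.ofFinite κ
  rw [(suppEquiv k T).finrank_eq, Module.finrank_fintype_fun_eq_card, Nat.card_eq_fintype_card]

theorem supp_mono {T T' : Set κ} (h : T ⊆ T') : supp k T ≤ supp k T' := fun _ hv x hx => hv x fun h' => hx (h h')

theorem single_mem_supp [DecidableEq κ] {T : Set κ} {x : κ} (hx : x ∈ T) : (Pi.single x 1 : κ → k) ∈ supp k T := by
  intro y hy
  rw [Pi.single_eq_of_ne]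
  rintro rfl
  exact hy hx

theorem supp_disj {T T' : Set κ} (h : Disjoint T T') {v : κ → k} (h1 : v ∈ supp k T) (h2 : v ∈ supp k T') : v = 0 := by
  funext x
  by_cases hx : x ∈ T
  · exact h2 x fun h' => (Set.disjoint_left.1 h) hx h'
  · exact h1 x hx

variable [Fintype κ] [DecidableEq κ]

/-- scalars on a coordinate subspace -/
theorem bc_smul_iff {T : Set κ} {g : (κ → K) ≃ₗ[K] (κ → K)} {c : k} :
    (∀ v ∈ supp k T, bc k g v = c • v) ↔ ∀ x ∈ T, bc k g (Pi.single x 1) = c • Pi.single x 1 := by
  refine ⟨fun h x hx => h _ (single_mem_supp k hx), fun h v hv => ?_⟩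
  have h1 : v = ∑ x, v x • (Pi.single x 1 : κ → k) := by
    funext y
    simp [Pi.single_apply]
  rw [h1, map_sum, Finset.smul_sum]
  refine Finset.sum_congr rfl fun x _ => ?_
  rw [map_smul]
  by_cases hx : x ∈ T
  · rw [h x hx, smul_comm]
  · rw [hv x hx, zero_smul, zero_smul, smul_zero]

theorem bc_fix_iff {T : Set κ} {g : (κ → K) ≃ₗ[K] (κ → K)} :
    (∀ v ∈ supp k T, bc k g v = v) ↔ ∀ x ∈ T, g (Pi.single x 1) = Pi.single x 1 := by
  have h1 := bc_smul_iff (K := K) k (T := T) (g := g) (c := 1)
  simp only [one_smul] at h1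
  rw [h1]
  refine forall₂_congr fun x _ => ?_
  rw [bc_single]
  constructor
  · intro h
    funext y
    have h2 := congrFun h y
    apply (algebraMap K k).injective
    rw [h2, Pi.single_apply, Pi.single_apply]
    split_ifs <;> simp
  · intro h
    rw [h]
    funext y
    rw [Pi.single_apply, Pi.single_apply]
    split_ifs <;> simp

/-- the range of `g - 1` for a diagonal involution -/
theorem range_dg {ε : κ → Kˣ} (two : (2 : k) ≠ 0) (hε : ∀ x, ε x = 1 ∨ ε x = -1) :
    LinearMap.range (bc k (dg ε) - 1) = supp k {x | ε x = -1} := by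
  have two' : (-2 : k) ≠ 0 := neg_ne_zero.2 two
  apply le_antisymm
  · rintro _ ⟨v, rfl⟩ x hx
    rw [LinearMap.sub_apply, Pi.sub_apply, bc_dg, (hε x).resolve_right hx]
    simp
  · intro v hv
    refine ⟨(-2 : k)⁻¹ • v, funext fun x => ?_⟩
    rw [LinearMap.sub_apply, Pi.sub_apply, bc_dg]
    rcases hε x with h | h
    · have h2 : ε x ≠ -1 := by
        rw [h]
        intro h3
        have h4 : algebraMap K k ((1 : Kˣ) : K) = algebraMap K k ((-1 : Kˣ) : K) := by rw [← h3]
        rw [Units.val_neg, Units.val_one, map_neg, map_one] at h4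
        exact two (by linear_combination h4)
      rw [hv x h2, h]
      simp [hv x h2]
    · rw [h, Units.val_neg, Units.val_one, map_neg, map_one]
      change -1 * ((-2 : k)⁻¹ * v x) - (-2 : k)⁻¹ * v x = v x
      field_simp
      ring

end supp

end Cfsg.Agent.H911.Hall
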