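import Mathlib
import Cfsg.Agent.H125.Hall.Defs

/-!
# S2223, rows SL and SU (helper911): `SLData` is invariant under isomorphisms
-/

set_option autoImplicit false

namespace Cfsg.Agent.H911.Hall

open Subgroup Cfsg.Agent.H125.Hall Cfsg.Agent.Cit

section

variable {k : Type*} [Field k] {V : Type*} [AddCommGroup V] [Module k V] {A B : Type*} [Group A] [Group B]

/-- the Sylow subgroup of an isomorphic group -/
noncomputable def sylE (e : A ≃* B) (S : Sylow 2 A) : Sylow 2 B :=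
  S.comapOfInjective e.symm.toMonoidHom e.symm.injective fun x _ => ⟨e x, e.symm_apply_apply x⟩

theorem mem_sylE {e : A ≃* B} {S : Sylow 2 A} {x : B} : x ∈ (sylE e S : Subgroup B) ↔ e.symm x ∈ (S : Subgroup A) := Iff.rfl

/-- the representation of an isomorphic group -/
def rhoE (e : A ≃* B) (ρ : A →* (V →ₗ[k] V)) : B →* (V →ₗ[k] V) := ρ.comp e.symm.toMonoidHom

@[simp] theorem rhoE_apply (e : A ≃* B) (ρ : A →* (V →ₗ[k] V)) (x : B) : rhoE e ρ x = ρ (e.symm x) := rfl

theorem mv_E (e : A ≃* B) (ρ : A →* (V →ₗ[k] V)) (x : B) : mv (rhoE e ρ) x = mv ρ (e.symm x) := rfl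

/-- the subgroup of an isomorphic group -/
def subE (e : A ≃* B) (Q : Subgroup A) : Subgroup B := Q.comap e.symm.toMonoidHom

theorem mem_subE {e : A ≃* B} {Q : Subgroup A} {x : B} : x ∈ subE e Q ↔ e.symm x ∈ Q := Iff.rfl

/-- `Q ≃* subE e Q` -/
def subEequiv (e : A ≃* B) (Q : Subgroup A) : ↥(subE e Q) ≃* ↥Q where
  toFun x := ⟨e.symm x, x.2⟩
  invFun x := ⟨e x, by rw [mem_subE, e.symm_apply_apply]; exact x.2⟩
  left_inv x := Subtype.ext (e.apply_symm_apply _)
  right_inv x := Subtype.ext (e.symm_apply_apply _)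
  map_mul' x y := Subtype.ext (map_mul e.symm _ _)

theorem isQ_E {e : A ≃* B} {Q : Subgroup A} (h : AutQuat.IsQ Q) : AutQuat.IsQ (subE e Q) := by
  obtain ⟨n, ⟨f⟩⟩ := h
  exact ⟨n, ⟨(subEequiv e Q).trans f⟩⟩

theorem conj_E (e : A ≃* B) {s : B} {x y : A} : s * e x * s⁻¹ = e y ↔ e.symm s * x * (e.symm s)⁻¹ = y := by
  rw [← e.symm.injective.eq_iff, map_mul, map_mul, map_inv, e.symm_apply_apply, e.symm_apply_apply]

theorem orb_E {e : A ≃* B} {S : Sylow 2 A} {ι : Type*} {t : ι → A} {i j : ι} :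
    Orb (sylE e S : Subgroup B) (fun i => e (t i)) i j ↔ Orb (S : Subgroup A) t i j := by
  constructor
  · rintro ⟨s, hs, h⟩
    exact ⟨e.symm s, hs, (conj_E e).1 h⟩
  · rintro ⟨s, hs, h⟩
    refine ⟨e s, by rw [mem_sylE, e.symm_apply_apply]; exact hs, ?_⟩
    change e s * e (t i) * (e s)⁻¹ = e (t j)
    rw [conj_E, e.symm_apply_apply]
    exact h

theorem fr_E (e : A ≃* B) {ρ : A →* (V →ₗ[k] V)} {S : Sylow 2 A} {ι : Type*} {t : ι → A} {Q : ι → Subgroup A}
    {V0 : Submodule k V} (h : Fr ρ S t Q V0) : Fr (rhoE e ρ) (sylE e S) (fun i => e (t i)) (fun i => subE e (Q i)) V0 where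
  inj x y hxy := e.symm.injective (h.inj hxy)
  two := h.two
  det x := h.det _
  isQ i := isQ_E (h.isQ i)
  mem i := by rw [mem_subE, e.symm_apply_apply]; exact h.mem i
  ord i := by rw [MulEquiv.orderOf_eq]; exact h.ord i
  dim i := by rw [mv_E, e.symm_apply_apply]; exact h.dim i
  QK i x hx := by
    obtain ⟨h1, h2⟩ := h.QK i hx
    refine ⟨?_, fun v hv => ?_⟩
    · apply e.symm.injective
      rw [map_mul, map_mul, e.symm_apply_apply]
      exact h1
    · rw [rhoE_apply, e.symm_apply_apply] at hv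
      exact h2 v hv
  QS i x hx := h.QS i hx
  comm i j hij x hx y hy := by
    apply e.symm.injective
    rw [map_mul, map_mul]
    exact h.comm i j hij _ hx _ hy
  perm s hs i := by
    obtain ⟨j, hj⟩ := h.perm _ hs i
    exact ⟨j, (conj_E e).2 hj⟩
  V0_eq v := by
    rw [h.V0_eq]
    simp only [rhoE_apply, e.symm_apply_apply]
  dim0 := h.dim0

theorem frSL_E (e : A ≃* B) {ρ : A →* (V →ₗ[k] V)} {S : Sylow 2 A} {ι : Type*} {t : ι → A} {Q : ι → Subgroup A}
    {V0 : Submodule k V} (h : FrSL ρ S t Q V0) :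
    FrSL (rhoE e ρ) (sylE e S) (fun i => e (t i)) (fun i => subE e (Q i)) V0 where
  toFr := fr_E e h.toFr
  tr i j l hij hjl := by
    rw [orb_E] at hij hjl
    obtain ⟨s, hs, h1, h2⟩ := h.tr i j l hij hjl
    refine ⟨e s, by rw [mem_sylE, e.symm_apply_apply]; exact hs, ?_, ?_⟩
    · rw [conj_E, e.symm_apply_apply]; exact h1
    · rw [conj_E, e.symm_apply_apply]; exact h2
  dist i j hij := by
    rw [orb_E]
    refine h.dist i j ?_
    have h1 : ∀ i, Nat.card {l // Orb (sylE e S : Subgroup B) (fun i => e (t i)) i l} =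
        Nat.card {l // Orb (S : Subgroup A) t i l} := fun i =>
      Nat.card_congr (Equiv.subtypeEquivRight fun l => orb_E)
    rw [← h1, ← h1, hij]
  refl h0 i := by
    obtain ⟨y, hy, h1, h2, h3, h4, h5⟩ := h.refl h0 i
    refine ⟨e y, by rw [mem_sylE, e.symm_apply_apply]; exact hy, ?_, ?_, ?_, ?_, ?_⟩
    · rw [← map_mul, ← map_mul, h1]
    · rw [← map_mul, h2, map_one]
    · rw [mv_E, e.symm_apply_apply]; exact h3
    · rw [mv_E, e.symm_apply_apply]; exact h4
    · rw [mv_E, e.symm_apply_apply, mv_E, e.symm_apply_apply]; exact h5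

theorem off_E {e : A ≃* B} {ρ : A →* (V →ₗ[k] V)} {S : Sylow 2 A} {ι : Type*} {t : ι → A} {V0 : Submodule k V}
    {J : Set ι} {b : Bool} {s : B} :
    Off (rhoE e ρ) (sylE e S) (fun i => e (t i)) V0 J b s ↔ Off ρ S t V0 J b (e.symm s) := by
  unfold Off
  simp only [mem_sylE, mv_E, e.symm_apply_apply, rhoE_apply]

theorem frOrd_E (e : A ≃* B) {ρ : A →* (V →ₗ[k] V)} {S : Sylow 2 A} {ι : Type*} {t : ι → A}
    {V0 : Submodule k V} (h : FrOrd ρ S t V0) : FrOrd (rhoE e ρ) (sylE e S) (fun i => e (t i)) V0 := by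
  intro J b hJ hne m hm h3
  have h1 : Nat.card {s : B // Off (rhoE e ρ) (sylE e S) (fun i => e (t i)) V0 J b s} =
      Nat.card {s : A // Off ρ S t V0 J b s} :=
    Nat.card_congr (e.symm.toEquiv.subtypeEquiv fun s => off_E)
  have h2 : Nat.card {s : B // Off (rhoE e ρ) (sylE e S) (fun i => e (t i)) V0 J b s ∧
      ∃ c : k, (∀ i ∈ J, ∀ v ∈ mv (rhoE e ρ) (e (t i)), rhoE e ρ s v = c • v) ∧
          (b = true → ∀ v ∈ V0, rhoE e ρ s v = c • v)} =
      Nat.card {s : A // Off ρ S t V0 J b s ∧ ∃ c : k, (∀ i ∈ J, ∀ v ∈ mv ρ (t i), ρ s v = c • v) ∧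
          (b = true → ∀ v ∈ V0, ρ s v = c • v)} := by
    refine Nat.card_congr (e.symm.toEquiv.subtypeEquiv fun s => and_congr off_E ?_)
    simp only [mv_E, e.symm_apply_apply, rhoE_apply]
    rfl
  rw [h1, h2]
  refine h J b (fun s hs i hi j hj => ?_) hne m hm h3
  refine hJ (e s) (by rw [mem_sylE, e.symm_apply_apply]; exact hs) i hi j ?_
  rw [conj_E, e.symm_apply_apply]
  exact hj

end

/-- `SLData` is invariant under isomorphisms. -/
theorem slData_congr {p : ℕ} {G G' : Type} [Group G] [Group G'] (e : G ≃* G') (h : SLData p G) : SLData p G' := by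
  obtain ⟨k, i1, i2, i3, V, i4, i5, i6, ρ, S, ι, i7, t, Q, V0, h1, h2, h3⟩ := h
  refine ⟨k, i1, i2, i3, V, i4, i5, i6, rhoE e ρ, sylE e S, ι, i7, fun i => e (t i), fun i => subE e (Q i), V0,
    frSL_E e h1, frOrd_E e h2, ?_⟩
  intro g hg ho s hs
  have hg' : e.symm g ∈ Subgroup.normalizer ((S : Subgroup G) : Set G) := by
    rw [mem_normalizer_iff] at hg ⊢
    intro x
    have h4 := hg (e x)
    rw [mem_sylE, mem_sylE, e.symm_apply_apply, map_mul, map_mul, map_inv, e.symm_apply_apply] at h4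
    exact h4
  have h5 := h3 _ hg' (by rw [MulEquiv.orderOf_eq]; exact ho) _ hs
  apply e.symm.injective
  rw [map_mul, map_mul]
  exact h5

end Cfsg.Agent.H911.Hall
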