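import Mathlib
import Cfsg.Agent.Cit.AutQuat
import Cfsg.Agent.H560.QuatLift

/-!
# S2223, rows SL and SU (helper911)

* `odd_comm_of_quot` : elements of odd order of `N(S)` centralise `S`, if the Sylow 2-subgroups of a central quotient
  have no automorphisms of odd order;
* `isQ_of` : generalized quaternion groups in terms of generators.
-/

set_option autoImplicit false

namespace Cfsg.Agent.H911.Hall

open Subgroup Cfsg.Agent.Cit

theorem odd_comm_of_quot {G H : Type*} [Group G] [Group H] [Finite G] (f : G →* H) (hf : Function.Surjective f)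
    (hker : f.ker ≤ center G) (S : Sylow 2 G)
    (hA : ∀ (T : Sylow 2 H) (φ : MulAut ↥(T : Subgroup H)) (k : ℕ), Odd k → φ ^ k = 1 → φ = 1) :
    ∀ g ∈ normalizer ((S : Subgroup G) : Set G), Odd (orderOf g) → ∀ s ∈ (S : Subgroup G), g * s = s * g := by
  have hp : Fact (Nat.Prime 2) := ⟨Nat.prime_two⟩
  intro g hg ho s hs
  let T : Sylow 2 H := S.mapSurjective hf
  have hT : (T : Subgroup H) = (S : Subgroup G).map f := Sylow.coe_mapSurjective hf S
  have hfg : f g ∈ normalizer ((T : Subgroup H) : Set H) := by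
    rw [mem_normalizer_iff, hT]
    have key : ∀ g ∈ normalizer ((S : Subgroup G) : Set G), ∀ h ∈ (S : Subgroup G).map f,
        f g * h * (f g)⁻¹ ∈ (S : Subgroup G).map f := by
      rintro g hg _ ⟨s, hs, rfl⟩
      refine ⟨g * s * g⁻¹, (mem_normalizer_iff.1 hg s).1 hs, ?_⟩
      rw [map_mul, map_mul, map_inv]
    intro h
    refine ⟨fun hh => key g hg h hh, fun hh => ?_⟩
    have h1 := key g⁻¹ (inv_mem hg) _ hh
    rwa [map_inv, inv_inv, show (f g)⁻¹ * (f g * h * (f g)⁻¹) * f g = h by group] at h1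
  have h1 := hA T ((T : Subgroup H).normalizerMonoidHom ⟨f g, hfg⟩) (orderOf g) ho (by
    rw [← map_pow]
    have h2 : (⟨f g, hfg⟩ : normalizer ((T : Subgroup H) : Set H)) ^ orderOf g = 1 := by
      refine Subtype.ext ?_
      change f g ^ orderOf g = 1
      rw [← map_pow, pow_orderOf_eq_one, map_one]
    rw [h2, map_one])
  have h2 : (⟨f g, hfg⟩ : normalizer ((T : Subgroup H) : Set H)) ∈ (T : Subgroup H).normalizerMonoidHom.ker := h1
  rw [normalizerMonoidHom_ker, mem_subgroupOf] at h2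
  have h3 : f s * f g = f g * f s := h2 (f s) (by
    change f s ∈ (T : Subgroup H)
    rw [hT]
    exact ⟨s, hs, rfl⟩)
  -- the commutator
  set z := g * s * g⁻¹ * s⁻¹ with hz
  have hzk : z ∈ f.ker := by
    rw [MonoidHom.mem_ker, hz, map_mul, map_mul, map_mul, map_inv, map_inv, ← h3]
    group
  have hzc := hker hzk
  have hzS : z ∈ (S : Subgroup G) := mul_mem ((mem_normalizer_iff.1 hg s).1 hs) (inv_mem hs)
  have hcj : g * s * g⁻¹ = z * s := by rw [hz]; group
  have hn : ∀ n : ℕ, g ^ n * s * (g ^ n)⁻¹ = z ^ n * s := by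
    intro n
    induction n with
    | zero => simp
    | succ n ih =>
      have e1 : g ^ (n + 1) * s * (g ^ (n + 1))⁻¹ = g * (g ^ n * s * (g ^ n)⁻¹) * g⁻¹ := by
        rw [pow_succ']; group
      have e2 : g * (z ^ n * s) * g⁻¹ = z ^ n * (g * s * g⁻¹) := by
        have e3 : g * z ^ n = z ^ n * g := (mem_center_iff.1 (pow_mem hzc n)) g
        rw [← mul_assoc, e3]
        group
      rw [e1, ih, e2, hcj, ← mul_assoc, ← pow_succ]
  have h4 := hn (orderOf g)
  rw [pow_orderOf_eq_one, one_mul, inv_one, mul_one] at h4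
  have h5 : z ^ orderOf g = 1 := by
    have : z ^ orderOf g * s = 1 * s := by rw [← h4, one_mul]
    exact mul_right_cancel this
  have h6 : z = 1 := by
    obtain ⟨a, ha⟩ := S.2 ⟨z, hzS⟩
    have ha' : z ^ 2 ^ a = 1 := congrArg Subtype.val ha
    rw [← orderOf_eq_one_iff]
    exact Nat.eq_one_of_dvd_coprimes (Nat.Coprime.pow_left a (Nat.coprime_two_left.2 ho))
      (orderOf_dvd_of_pow_eq_one ha') (orderOf_dvd_of_pow_eq_one h5)
  rw [h6, one_mul] at hcj
  exact mul_inv_eq_iff_eq_mul.1 hcj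

/-- generalized quaternion groups -/
theorem isQ_of {G : Type*} [Group G] (Q : Subgroup G) {c t : G} (hc : c ∈ Q) (ht : t ∈ Q) {w : ℕ} (hw : 2 ≤ w)
    (ho : orderOf c = 2 ^ w) (hct : t * c * t⁻¹ = c⁻¹) (htt : t * t = c ^ 2 ^ (w - 1)) (htc : t ∉ zpowers c)
    (hQ : ∀ x ∈ Q, x ∈ zpowers c ∨ t⁻¹ * x ∈ zpowers c) : AutQuat.IsQ Q := by
  obtain ⟨n, rfl⟩ : ∃ n, w = n + 2 := ⟨w - 2, by omega⟩
  have hpw : 2 * 2 ^ (n + 1) = 2 ^ (n + 2) := by ring
  have h1 : c ^ (2 * 2 ^ (n + 1)) = 1 := by rw [hpw, ← ho, pow_orderOf_eq_one]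
  have h2 : c * t = t * c⁻¹ := by
    have h3 : t * c = c⁻¹ * t := by rw [← hct]; group
    have h4 : t = c⁻¹ * t * c⁻¹ := by rw [← h3, mul_inv_cancel_right]
    calc c * t = c * (c⁻¹ * t * c⁻¹) := by rw [← h4]
      _ = t * c⁻¹ := by group
  let f := Cfsg.Agent.H560.quatHom (2 ^ (n + 1)) c t h1 htt h2
  have hfa : ∀ i : ℤ, f (.a (i : ZMod (2 * 2 ^ (n + 1)))) = c ^ i := by
    intro i
    exact (Cfsg.Agent.H560.quatHom_a _ _ _ _ _ _ _).trans (Cfsg.Agent.H560.pw_intCast _ _ _ _)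
  have hfx : ∀ i : ℤ, f (.xa (i : ZMod (2 * 2 ^ (n + 1)))) = t * c ^ i := by
    intro i
    refine (Cfsg.Agent.H560.quatHom_xa _ _ _ _ _ _ _).trans ?_
    rw [Cfsg.Agent.H560.pw_intCast]
  have hinj : Function.Injective f := by
    rw [injective_iff_map_eq_one]
    rintro (i | i) hi
    · obtain ⟨i, rfl⟩ := ZMod.intCast_surjective i
      rw [hfa] at hi
      have h5 : (orderOf c : ℤ) ∣ i := orderOf_dvd_iff_zpow_eq_one.2 hi
      rw [ho, ← hpw] at h5
      rw [(ZMod.intCast_zmod_eq_zero_iff_dvd i _).2 h5]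
      rfl
    · obtain ⟨i, rfl⟩ := ZMod.intCast_surjective i
      rw [hfx] at hi
      exfalso
      apply htc
      rw [eq_inv_of_mul_eq_one_left hi]
      exact inv_mem (zpow_mem (mem_zpowers c) i)
  have hran : f.range = Q := by
    ext x
    constructor
    · rintro ⟨(i | i), rfl⟩
      · obtain ⟨i, rfl⟩ := ZMod.intCast_surjective i
        rw [hfa]
        exact zpow_mem hc i
      · obtain ⟨i, rfl⟩ := ZMod.intCast_surjective i
        rw [hfx]
        exact mul_mem ht (zpow_mem hc i)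
    · intro hx
      rcases hQ x hx with ⟨i, hi⟩ | ⟨i, hi⟩
      · exact ⟨.a (i : ZMod (2 * 2 ^ (n + 1))), (hfa i).trans hi⟩
      · refine ⟨.xa (i : ZMod (2 * 2 ^ (n + 1))), (hfx i).trans ?_⟩
        have hi' : c ^ i = t⁻¹ * x := hi
        rw [hi', mul_inv_cancel_left]
  exact ⟨n, ⟨(MulEquiv.subgroupCongr hran.symm).trans (MonoidHom.ofInjective hinj).symm⟩⟩

end Cfsg.Agent.H911.Hall
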