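import Mathlib
import Cfsg.Agent.CharactersDeep.QuatSylow

/-!
# S2223, rows SL and SU (helper911): Sylow 2-subgroups of symmetric groups

* `card_inf_sylow` : the intersection of a Sylow subgroup with a subgroup which it normalizes;
* `perm_tr` : in a Sylow 2-subgroup of a symmetric group the stabilizer of a point is transitive on the other orbits;
* `perm_dist` : its orbits have pairwise different lengths.
-/

set_option autoImplicit false

namespace Cfsg.Agent.H911.Hall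

open Subgroup Equiv

/-- The intersection of a Sylow subgroup with a subgroup which it normalizes. -/
theorem card_inf_sylow {G : Type*} [Group G] [Finite G] {p : ℕ} [Fact p.Prime] (S : Sylow p G) (A : Subgroup G)
    (hA : ∀ s ∈ (S : Subgroup G), ∀ a ∈ A, s * a * s⁻¹ ∈ A) :
    Nat.card ↥((S : Subgroup G) ⊓ A) = p ^ (Nat.card A).factorization p := by
  have hS : (S : Subgroup G) ≤ normalizer (A : Set G) := by
    intro s hs
    rw [mem_normalizer_iff]
    intro a
    refine ⟨fun ha => hA s hs a ha, fun ha => ?_⟩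
    have h1 := hA s⁻¹ (inv_mem hs) _ ha
    rwa [inv_inv, show s⁻¹ * (s * a * s⁻¹) * s = a by group] at h1
  have h1 := Cfsg.Agent.CharactersDeep.QuatSylow.not_dvd_relIndex_of_le_normalizer S A (normalizer (A : Set G)) hS
    le_normalizer le_rfl
  have hpg : IsPGroup p ↥((S : Subgroup G).subgroupOf A) := by
    rw [← inf_subgroupOf_right]
    exact (IsPGroup.to_le S.2 inf_le_left).of_equiv (subgroupOfEquivOfLe inf_le_right).symm
  have h2 : Nat.card ↥((S : Subgroup G).subgroupOf A) = p ^ (Nat.card A).factorization p :=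
    (hpg.toSylow (P := (S : Subgroup G).subgroupOf A) h1).card_eq_multiplicity
  rw [← h2, ← inf_subgroupOf_right]
  exact Nat.card_congr (subgroupOfEquivOfLe inf_le_right).symm.toEquiv

theorem inv_self {β : Type*} (π : Perm β) (x : β) : π⁻¹ (π x) = x := π.symm_apply_apply x

theorem self_inv {β : Type*} (π : Perm β) (x : β) : π (π⁻¹ x) = x := π.apply_symm_apply x

variable {α : Type*} [Finite α]

/-- the elements of `Perm α` which agree with elements of `Q` on `O` and on the complement of `O` -/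
def hull (Q : Subgroup (Perm α)) (O : Set α) (hO : ∀ π ∈ Q, ∀ x ∈ O, π x ∈ O) : Subgroup (Perm α) where
  carrier := {σ | ∃ π₁ ∈ Q, ∃ π₂ ∈ Q, (∀ x ∈ O, σ x = π₁ x) ∧ ∀ x, x ∉ O → σ x = π₂ x}
  one_mem' := ⟨1, Q.one_mem, 1, Q.one_mem, fun _ _ => rfl, fun _ _ => rfl⟩
  mul_mem' := by
    rintro σ τ ⟨π₁, h1, π₂, h2, h3, h4⟩ ⟨ρ₁, k1, ρ₂, k2, k3, k4⟩
    refine ⟨π₁ * ρ₁, Q.mul_mem h1 k1, π₂ * ρ₂, Q.mul_mem h2 k2, fun x hx => ?_, fun x hx => ?_⟩
    · rw [Perm.mul_apply, Perm.mul_apply, k3 x hx, h3 _ (hO _ k1 x hx)]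
    · rw [Perm.mul_apply, Perm.mul_apply, k4 x hx, h4]
      intro h
      apply hx
      have := hO _ (Q.inv_mem k2) _ h
      rwa [inv_self] at this
  inv_mem' := by
    rintro σ ⟨π₁, h1, π₂, h2, h3, h4⟩
    refine ⟨π₁⁻¹, Q.inv_mem h1, π₂⁻¹, Q.inv_mem h2, fun x hx => ?_, fun x hx => ?_⟩
    · rw [Perm.inv_eq_iff_eq, h3 _ (hO _ (Q.inv_mem h1) x hx), self_inv]
    · rw [Perm.inv_eq_iff_eq, h4, self_inv]
      intro h
      apply hx
      have := hO _ h2 _ h
      rwa [self_inv] at this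

theorem hull_eq (Q : Sylow 2 (Perm α)) (O : Set α) (hO : ∀ π ∈ (Q : Subgroup (Perm α)), ∀ x ∈ O, π x ∈ O) :
    hull (Q : Subgroup (Perm α)) O hO = Q := by
  have hle : (Q : Subgroup (Perm α)) ≤ hull (Q : Subgroup (Perm α)) O hO := fun π hπ =>
    ⟨π, hπ, π, hπ, fun _ _ => rfl, fun _ _ => rfl⟩
  have hpow : ∀ σ π : Perm α, (∀ x ∈ O, σ x = π x) → (∀ x ∈ O, π x ∈ O) → ∀ n : ℕ, ∀ x ∈ O, (σ ^ n) x = (π ^ n) x := by
    intro σ π h1 h2 n
    induction n with
    | zero => intro x _; rfl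
    | succ n ih =>
      intro x hx
      rw [pow_succ, pow_succ, Perm.mul_apply, Perm.mul_apply, h1 x hx, ih _ (h2 x hx)]
  have hpow' : ∀ σ π : Perm α, (∀ x, x ∉ O → σ x = π x) → (∀ x, x ∉ O → π x ∉ O) → ∀ n : ℕ, ∀ x, x ∉ O →
      (σ ^ n) x = (π ^ n) x := by
    intro σ π h1 h2 n
    induction n with
    | zero => intro x _; rfl
    | succ n ih =>
      intro x hx
      rw [pow_succ, pow_succ, Perm.mul_apply, Perm.mul_apply, h1 x hx, ih _ (h2 x hx)]
  refine Q.3 ?_ hle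
  rintro ⟨σ, π₁, h1, π₂, h2, h3, h4⟩
  obtain ⟨a, ha⟩ := Q.2 ⟨π₁, h1⟩
  obtain ⟨b, hb⟩ := Q.2 ⟨π₂, h2⟩
  have ha' : π₁ ^ 2 ^ a = 1 := congrArg Subtype.val ha
  have hb' : π₂ ^ 2 ^ b = 1 := congrArg Subtype.val hb
  refine ⟨a + b, Subtype.ext (Equiv.ext fun x => ?_)⟩
  change (σ ^ 2 ^ (a + b)) x = x
  by_cases hx : x ∈ O
  · rw [hpow σ π₁ h3 (hO _ h1) _ x hx, pow_add, pow_mul, ha', one_pow]
    rfl
  · rw [hpow' σ π₂ h4 (fun y hy h => hy (by
      have := hO _ (Q.inv_mem h2) _ h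
      rwa [inv_self] at this)) _ x hx, add_comm, pow_add, pow_mul, hb', one_pow]
    rfl

/-- The stabilizer of a point in a Sylow 2-subgroup of a symmetric group is transitive on the other orbits. -/
theorem perm_tr (Q : Sylow 2 (Perm α)) {i j l : α} (hij : ¬ ∃ π ∈ (Q : Subgroup (Perm α)), π i = j)
    (hjl : ∃ π ∈ (Q : Subgroup (Perm α)), π j = l) :
    ∃ π ∈ (Q : Subgroup (Perm α)), π i = i ∧ π j = l := by
  classical
  obtain ⟨π, hπ, hπj⟩ := hjl
  set O : Set α := {x | ∃ π ∈ (Q : Subgroup (Perm α)), π x = j} with hOdef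
  have hO : ∀ π ∈ (Q : Subgroup (Perm α)), ∀ x ∈ O, π x ∈ O := by
    rintro π hπ x ⟨ρ, hρ, hx⟩
    refine ⟨ρ * π⁻¹, mul_mem hρ (inv_mem hπ), ?_⟩
    rw [Perm.mul_apply, inv_self, hx]
  have hOi : ∀ π ∈ (Q : Subgroup (Perm α)), ∀ x, x ∈ O ↔ π x ∈ O := by
    intro π hπ x
    refine ⟨hO π hπ x, fun h => ?_⟩
    have := hO _ (inv_mem hπ) _ h
    rwa [inv_self] at this
  let τ : Perm α := Perm.ofSubtype (π.subtypePerm (p := (· ∈ O)) fun x => (hOi π hπ x).symm)
  have h1 : ∀ x ∈ O, τ x = π x := by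
    intro x hx
    exact (Perm.ofSubtype_apply_of_mem _ hx).trans rfl
  have h2 : ∀ x, x ∉ O → τ x = x := fun x hx => Perm.ofSubtype_apply_of_not_mem _ hx
  have h3 : τ ∈ (Q : Subgroup (Perm α)) := by
    rw [← hull_eq Q O hO]
    exact ⟨π, hπ, 1, one_mem _, h1, h2⟩
  refine ⟨τ, h3, h2 i hij, ?_⟩
  rw [h1 j ⟨1, one_mem _, rfl⟩, hπj]

/-- The orbits of a Sylow 2-subgroup of a symmetric group have different lengths. -/
theorem perm_dist (Q : Sylow 2 (Perm α)) {i j : α}
    (h : Nat.card {l // ∃ π ∈ (Q : Subgroup (Perm α)), π i = l} = Nat.card {l // ∃ π ∈ (Q : Subgroup (Perm α)), π j = l}) :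
    ∃ π ∈ (Q : Subgroup (Perm α)), π i = j := by
  classical
  have hp : Fact (Nat.Prime 2) := ⟨Nat.prime_two⟩
  by_contra hcon
  set A : Set α := {l | ∃ π ∈ (Q : Subgroup (Perm α)), π i = l} with hA
  set B : Set α := {l | ∃ π ∈ (Q : Subgroup (Perm α)), π j = l} with hB
  have hAi : ∀ π ∈ (Q : Subgroup (Perm α)), ∀ x ∈ A, π x ∈ A := by
    rintro π hπ x ⟨ρ, hρ, rfl⟩
    exact ⟨π * ρ, mul_mem hπ hρ, rfl⟩
  have hBi : ∀ π ∈ (Q : Subgroup (Perm α)), ∀ x ∈ B, π x ∈ B := by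
    rintro π hπ x ⟨ρ, hρ, rfl⟩
    exact ⟨π * ρ, mul_mem hπ hρ, rfl⟩
  have hdisj : Disjoint A B := by
    rw [Set.disjoint_left]
    rintro x ⟨π, hπ, rfl⟩ ⟨ρ, hρ, hx⟩
    refine hcon ⟨ρ⁻¹ * π, mul_mem (inv_mem hρ) hπ, ?_⟩
    rw [Perm.mul_apply, ← hx, inv_self]
  -- the permutations with support in `A ∪ B`
  let N : Subgroup (Perm α) :=
    { carrier := {σ | ∀ x, x ∉ A ∪ B → σ x = x}
      one_mem' := fun _ _ => rfl
      mul_mem' := by
        intro σ τ h1 h2 x hx
        rw [Perm.mul_apply, h2 x hx, h1 x hx]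
      inv_mem' := by
        intro σ h1 x hx
        rw [Perm.inv_eq_iff_eq, h1 x hx] }
  have hNc : Nat.card N = (Nat.card ↥(A ∪ B)).factorial := by
    rw [← Nat.card_perm]
    exact (Nat.card_congr (Perm.subtypeEquivSubtypePerm fun x => x ∈ A ∪ B)).symm
  have h1 := card_inf_sylow Q N (by
    intro π hπ σ hσ x hx
    have hx' : π⁻¹ x ∉ A ∪ B := by
      rintro (h2 | h2)
      · apply hx; left
        have := hAi π hπ _ h2
        rwa [self_inv] at this
      · apply hx; right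
        have := hBi π hπ _ h2
        rwa [self_inv] at this
    rw [Perm.mul_apply, Perm.mul_apply, hσ _ hx', self_inv])
  -- embedding
  have hinv : ∀ (C : Set α), (∀ π ∈ (Q : Subgroup (Perm α)), ∀ x ∈ C, π x ∈ C) → ∀ π : ↥((Q : Subgroup (Perm α)) ⊓ N),
      ∀ x, (π : Perm α) x ∈ C ↔ x ∈ C := by
    intro C hC π x
    refine ⟨fun h => ?_, hC _ π.2.1 x⟩
    have := hC _ (inv_mem π.2.1) _ h
    rwa [inv_self] at this
  let f : ↥((Q : Subgroup (Perm α)) ⊓ N) →* Perm A × Perm B :=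
    { toFun := fun π => ((π : Perm α).subtypePerm (hinv A hAi π), (π : Perm α).subtypePerm (hinv B hBi π))
      map_one' := by
        refine Prod.ext (Equiv.ext fun x => Subtype.ext rfl) (Equiv.ext fun x => Subtype.ext rfl)
      map_mul' := by
        intro π ρ
        refine Prod.ext (Equiv.ext fun x => Subtype.ext rfl) (Equiv.ext fun x => Subtype.ext rfl) }
  have hf : Function.Injective f := by
    rw [injective_iff_map_eq_one]
    intro π hπ
    refine Subtype.ext (Equiv.ext fun x => ?_)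
    by_cases hxA : x ∈ A
    · exact congrArg Subtype.val (Equiv.congr_fun (Prod.ext_iff.1 hπ).1 ⟨x, hxA⟩)
    by_cases hxB : x ∈ B
    · exact congrArg Subtype.val (Equiv.congr_fun (Prod.ext_iff.1 hπ).2 ⟨x, hxB⟩)
    exact π.2.2 x (fun h => h.elim hxA hxB)
  have h2 := Subgroup.card_dvd_of_injective f hf
  obtain ⟨c, hc⟩ : ∃ c, c = Nat.card A := ⟨_, rfl⟩
  have hcB : Nat.card B = c := by rw [hc]; exact h.symm
  have hAB : Nat.card ↥(A ∪ B) = 2 * c := by
    rw [Nat.card_coe_set_eq, Set.ncard_union_eq hdisj, ← Nat.card_coe_set_eq, ← Nat.card_coe_set_eq, hcB, ← hc, two_mul]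
  have hc1 : 1 ≤ c := by
    rw [hc]
    have : Nonempty A := ⟨⟨i, 1, one_mem _, rfl⟩⟩
    exact Nat.card_pos
  rw [Nat.card_prod, Nat.card_perm, Nat.card_perm, hcB, ← hc, h1, hNc, hAB] at h2
  have h3 : (2 * c).factorial = Nat.centralBinom c * (c.factorial * c.factorial) := by
    have := Nat.add_choose_mul_factorial_mul_factorial c c
    rw [Nat.centralBinom, ← mul_assoc, two_mul]
    exact this.symm
  have h4 : (2 * c).factorial.factorization 2 =
      (Nat.centralBinom c).factorization 2 + (c.factorial * c.factorial).factorization 2 := by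
    rw [h3, Nat.factorization_mul (Nat.centralBinom_ne_zero c) (by positivity)]
    rfl
  have h5 : (2 * c).factorial.factorization 2 ≤ (c.factorial * c.factorial).factorization 2 :=
    (Nat.Prime.pow_dvd_iff_le_factorization Nat.prime_two (by positivity)).1 h2
  have h6 : 1 ≤ (Nat.centralBinom c).factorization 2 :=
    (Nat.prime_two.dvd_iff_one_le_factorization (Nat.centralBinom_ne_zero c)).1 (Nat.two_dvd_centralBinom_of_one_le hc1)
  omega

end Cfsg.Agent.H911.Hall
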